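import Mathlib.RingTheory.Flat.Basic
import Mathlib.RingTheory.TensorProduct.Basic

/-!
# Equalisers and flat base change
-/

set_option autoImplicit false
universe u
open TensorProduct

namespace GrpdEtQuotLib

/-- The equaliser of two ring maps commutes with flat base change. -/
theorem equalizer_baseChange {C A B Y A' B' : Type u} [CommRing C] [CommRing A] [CommRing B] [CommRing Y]
    [CommRing A'] [CommRing B'] [Algebra C A] [Algebra C B] [Algebra C Y] [Module.Flat C Y]
    (hinj : Function.Injective (algebraMap C A)) (s t : A →ₐ[C] B)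
    (heq : ∀ a, s a = t a → a ∈ Set.range (algebraMap C A))
    (eA : A ⊗[C] Y ≃+* A') (eB : B ⊗[C] Y ≃+* B') (s' t' : A' →+* B')
    (hs : ∀ a y, s' (eA (a ⊗ₜ y)) = eB (s a ⊗ₜ y)) (ht : ∀ a y, t' (eA (a ⊗ₜ y)) = eB (t a ⊗ₜ y)) :
    Function.Injective (fun y : Y => eA (1 ⊗ₜ y)) ∧
      ∀ z : A', s' z = t' z → z ∈ Set.range (fun y : Y => eA (1 ⊗ₜ y)) := by
  let i := Algebra.linearMap C A
  let L : A →ₗ[C] B := s.toLinearMap - t.toLinearMap
  have hex : Function.Exact i L := by
    intro a
    constructor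
    · intro ha
      exact heq a (sub_eq_zero.1 ha)
    · rintro ⟨c, rfl⟩
      simp [L, i]
  have h1 : ∀ y : Y, i.rTensor Y ((1 : C) ⊗ₜ y) = (1 : A) ⊗ₜ y := fun y => by simp [i]
  have hL : ∀ z, eB (L.rTensor Y z) = s' (eA z) - t' (eA z) := by
    intro z
    induction z using TensorProduct.induction_on with
    | zero => simp
    | tmul a y => rw [hs, ht]; simp [L, sub_tmul]
    | add x y hx hy => rw [map_add, map_add, hx, hy, map_add, map_add, map_add]; abel
  refine ⟨fun y y' h => ?_, fun z hz => ?_⟩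
  · have h2 := eA.injective h
    simp only [← h1] at h2
    simpa using congrArg (TensorProduct.lid C Y) (Module.Flat.rTensor_preserves_injective_linearMap i hinj h2)
  · obtain ⟨z, rfl⟩ := eA.surjective z
    have h0 : L.rTensor Y z = 0 := eB.injective (by rw [hL, hz, sub_self, map_zero])
    obtain ⟨w, hw⟩ := (Module.Flat.rTensor_exact Y hex z).1 h0
    refine ⟨TensorProduct.lid C Y w, ?_⟩
    show eA _ = _
    rw [← h1, show (1 : C) ⊗ₜ[C] (TensorProduct.lid C Y w) = w from (TensorProduct.lid C Y).symm_apply_apply w, hw]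

end GrpdEtQuotLib
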