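import Groth.Agent.S1878
import Groth.Agent.S1879
import Mathlib.AlgebraicGeometry.Morphisms.Integral
import Mathlib.FieldTheory.IsAlgClosed.AlgebraicClosure

/-!
# The map to the spectrum of invariants of a finite locally free affine groupoid

It is integral and surjective, and `R ⟶ U ×_M U` is surjective and universally closed.
-/

set_option autoImplicit false
set_option backward.isDefEq.respectTransparency false
universe u
open CategoryTheory CategoryTheory.Limits AlgebraicGeometry

namespace GrpdEtQuotLib

variable {S : Scheme.{u}} (G : Grpd.GroupoidScheme S)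

theorem appTop_s_eq_t (c : G.invariants) : G.s.appTop.hom c.1 = G.t.appTop.hom c.1 := c.2

theorem s_toQuot : G.s ≫ G.toQuot = G.t ≫ G.toQuot := by
  have key : ∀ φ : G.R ⟶ G.U, φ ≫ G.toQuot =
      G.R.toSpecΓ ≫ Spec.map (CommRingCat.ofHom G.invariants.subtype ≫ φ.appTop) := fun φ => by
    rw [Grpd.GroupoidScheme.toQuot, Scheme.toSpecΓ_naturality_assoc, Spec.map_comp]
  rw [key, key]
  congr 2
  ext c
  exact appTop_s_eq_t G c

variable [IsAffine G.U] [IsAffine G.R] [IsFinite G.s] [Flat G.s] [LocallyOfFinitePresentation G.s]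
  [IsFinite G.t] [Flat G.t] [LocallyOfFinitePresentation G.t]

theorem surjective_toQuot : Surjective G.toQuot :=
  ⟨(Groth.Agent.S1878.result S G).1.1⟩

theorem isIntegralHom_toQuot : IsIntegralHom G.toQuot := by
  have h := (Groth.Agent.S1879.result S G).isIntegral
  haveI : IsIntegralHom (Spec.map (CommRingCat.ofHom G.invariants.subtype)) :=
    IsIntegralHom.SpecMap_iff.2 h
  exact inferInstanceAs (IsIntegralHom (G.U.isoSpec.hom ≫ Spec.map (CommRingCat.ofHom G.invariants.subtype)))

/-- `R ⟶ U ×_M U`. -/
noncomputable def toKerPair : G.R ⟶ pullback G.toQuot G.toQuot :=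
  pullback.lift G.t G.s (s_toQuot G).symm

theorem surjective_toKerPair : Surjective (toKerPair G) := by
  refine ⟨fun z => ?_⟩
  let P := pullback G.toQuot G.toQuot
  let K := AlgebraicClosure (P.residueField z)
  let x : Spec (CommRingCat.of K) ⟶ P :=
    Spec.map (CommRingCat.ofHom (algebraMap (P.residueField z) K)) ≫ P.fromSpecResidueField z
  obtain ⟨r, hr₁, hr₂⟩ := ((((Groth.Agent.S1878.result S G).2 K).2 (x ≫ pullback.fst _ _)
    (x ≫ pullback.snd _ _))).1 (by simp only [Category.assoc]; exact congrArg (x ≫ ·) pullback.condition)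
  have hx : r ≫ toKerPair G = x := by
    apply pullback.hom_ext
    · rw [Category.assoc, toKerPair, pullback.lift_fst, hr₁]
    · rw [Category.assoc, toKerPair, pullback.lift_snd, hr₂]
  refine ⟨r (IsLocalRing.closedPoint K), ?_⟩
  have hrange : Set.range x ⊆ {z} := by
    rintro _ ⟨a, rfl⟩
    have : x a ∈ Set.range (P.fromSpecResidueField z) := ⟨_, rfl⟩
    rwa [Scheme.range_fromSpecResidueField] at this
  have := hrange ⟨IsLocalRing.closedPoint K, rfl⟩
  rw [← hx] at this
  simpa using this

theorem universallyClosed_toKerPair : UniversallyClosed (toKerPair G) := by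
  haveI := isIntegralHom_toQuot G
  haveI : IsFinite (toKerPair G ≫ pullback.snd G.toQuot G.toQuot) := by
    rw [toKerPair, pullback.lift_snd]; infer_instance
  haveI : IsFinite (toKerPair G) := IsFinite.of_comp _ (pullback.snd G.toQuot G.toQuot)
  infer_instance

end GrpdEtQuotLib
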