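import Groth.Agent.GrpdEtQuotLib.Lift
import Groth.Agent.GrpdEtQuotLib.Cover
import Groth.Agent.SubmDescLib.Etale
import Groth.Agent.SubmDescLib.FiniteLocal
import Groth.Prelude.Def_Desc

/-!
# The descent datum of an etale cartesian morphism of groupoid schemes
-/

set_option autoImplicit false
set_option backward.isDefEq.respectTransparency false
universe u
open CategoryTheory CategoryTheory.Limits AlgebraicGeometry Desc

namespace GrpdEtQuotLib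

variable {S : Scheme.{u}} {G' G : Grpd.GroupoidScheme S} {f : Grpd.GroupoidScheme.Hom G' G}
  (ht : IsPullback f.fR G'.t G.t f.fU)

/-- `v₁` is the transport of `v₀` along all arrows from `x₁` to `x₀`. -/
def Rel {T : Scheme.{u}} (x₀ x₁ : T ⟶ G.U) (v₀ v₁ : T ⟶ G'.U) : Prop :=
  ∀ ⦃T' : Scheme.{u}⦄ (g : T' ⟶ T) (r : T' ⟶ G.R) (h : r ≫ G.t = (g ≫ v₀) ≫ f.fU),
    r ≫ G.t = g ≫ x₀ → r ≫ G.s = g ≫ x₁ → g ≫ v₁ = act ht r (g ≫ v₀) h

theorem Rel.comp {T T' : Scheme.{u}} {x₀ x₁ : T ⟶ G.U} {v₀ v₁ : T ⟶ G'.U} (h : Rel ht x₀ x₁ v₀ v₁)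
    (g : T' ⟶ T) : Rel ht (g ≫ x₀) (g ≫ x₁) (g ≫ v₀) (g ≫ v₁) := by
  intro T'' g' r hr h0 h1
  rw [← Category.assoc, h (g' ≫ g) r (by simpa using hr) (by simpa using h0) (by simpa using h1)]
  exact act_congr ht _ _ rfl (Category.assoc _ _ _)

variable [IsAffine G.U] [IsAffine G.R] [IsFinite G.s] [Flat G.s] [LocallyOfFinitePresentation G.s]
  [IsFinite G.t] [Flat G.t] [LocallyOfFinitePresentation G.t]

/-- Pairs of points with the same image are joined by an arrow after a surjective universally closed base change. -/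
theorem exists_cover {T : Scheme.{u}} (x₀ x₁ : T ⟶ G.U) (h : x₀ ≫ G.toQuot = x₁ ≫ G.toQuot) :
    ∃ (T' : Scheme.{u}) (c : T' ⟶ T) (r : T' ⟶ G.R), UniversallyClosed c ∧ Surjective c ∧
      r ≫ G.t = c ≫ x₀ ∧ r ≫ G.s = c ≫ x₁ := by
  haveI := surjective_toKerPair G
  haveI := universallyClosed_toKerPair G
  let k := pullback.lift x₀ x₁ h
  have hc := pullback.condition (f := toKerPair G) (g := k)
  refine ⟨pullback (toKerPair G) k, pullback.snd _ _, pullback.fst _ _,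
    MorphismProperty.pullback_snd (P := @UniversallyClosed) _ _ inferInstance,
    MorphismProperty.pullback_snd (P := @Surjective) _ _ inferInstance, ?_, ?_⟩
  · have := congrArg (· ≫ pullback.fst G.toQuot G.toQuot) hc
    simpa [toKerPair, k] using this
  · have := congrArg (· ≫ pullback.snd G.toQuot G.toQuot) hc
    simpa [toKerPair, k] using this

variable (hS : StabCart f) [Etale f.fU]
include hS

theorem rel_unique {T : Scheme.{u}} {x₀ x₁ : T ⟶ G.U} (h : x₀ ≫ G.toQuot = x₁ ≫ G.toQuot)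
    {v₀ v₁ w₁ : T ⟶ G'.U} (h₀ : v₀ ≫ f.fU = x₀) (h₁ : v₁ ≫ f.fU = x₁) (h₂ : w₁ ≫ f.fU = x₁)
    (hv : Rel ht x₀ x₁ v₀ v₁) (hw : Rel ht x₀ x₁ v₀ w₁) : v₁ = w₁ := by
  obtain ⟨T', c, r, hc₁, hc₂, hr₀, hr₁⟩ := exists_cover x₀ x₁ h
  refine SubmDescLib.hom_ext c f.fU (h₁.trans h₂.symm) ?_
  have hr : r ≫ G.t = (c ≫ v₀) ≫ f.fU := by rw [Category.assoc, h₀, hr₀]
  rw [hv c r hr hr₀ hr₁, hw c r hr hr₀ hr₁]

theorem rel_exists {T : Scheme.{u}} (x₀ x₁ : T ⟶ G.U) (h : x₀ ≫ G.toQuot = x₁ ≫ G.toQuot) (v₀ : T ⟶ G'.U)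
    (h₀ : v₀ ≫ f.fU = x₀) : ∃ v₁ : T ⟶ G'.U, v₁ ≫ f.fU = x₁ ∧ Rel ht x₀ x₁ v₀ v₁ := by
  obtain ⟨T', c, r, hc₁, hc₂, hr₀, hr₁⟩ := exists_cover x₀ x₁ h
  have hr : r ≫ G.t = (c ≫ v₀) ≫ f.fU := by rw [Category.assoc, h₀, hr₀]
  let y := act ht r (c ≫ v₀) hr
  have hy : y ≫ f.fU = c ≫ x₁ := by rw [act_fU, hr₁]
  obtain ⟨v₁, hv₁, hcv⟩ := SubmDescLib.exists_desc c
    (SubmDescLib.univSubmersive_of_universallyClosed_surjective c) f.fU x₁ y hy (by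
      simp only [y, comp_act]
      rw [act_congr (v := pullback.snd c c ≫ c ≫ v₀) ht _ (show (pullback.snd c c ≫ r) ≫ G.t = (pullback.fst c c ≫ c ≫ v₀) ≫ f.fU by
        rw [Category.assoc, hr, pullback.condition_assoc]; simp) rfl (pullback.condition_assoc v₀).symm]
      refine act_indep ht hS _ _ _ _ _ ?_
      rw [Category.assoc, Category.assoc, hr₁, pullback.condition_assoc])
  refine ⟨v₁, hv₁, fun T'' g r' hr' h0 h1 => ?_⟩
  refine SubmDescLib.hom_ext (pullback.fst g c) f.fU (by rw [act_fU, h1, Category.assoc, hv₁]) ?_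
  have e : pullback.fst g c ≫ g ≫ v₁ = pullback.snd g c ≫ y := by
    rw [← hcv, pullback.condition_assoc]
  rw [e, comp_act, comp_act]
  rw [act_congr ht _ (show (pullback.snd g c ≫ r) ≫ G.t = (pullback.fst g c ≫ g ≫ v₀) ≫ f.fU by
    rw [Category.assoc, hr, pullback.condition_assoc]; simp) rfl (pullback.condition_assoc v₀).symm]
  refine act_indep ht hS _ _ _ _ _ ?_
  rw [Category.assoc, Category.assoc, hr₁, h1, pullback.condition_assoc]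

theorem rel_self {T : Scheme.{u}} (x : T ⟶ G.U) (v : T ⟶ G'.U) : Rel ht x x v v := fun T' g r h h0 h1 =>
  (act_stab ht hS r (g ≫ v) h (h1.trans h0.symm)).symm

theorem rel_trans {T : Scheme.{u}} {x₀ x₁ x₂ : T ⟶ G.U} (h : x₀ ≫ G.toQuot = x₁ ≫ G.toQuot)
    {v₀ v₁ v₂ : T ⟶ G'.U} (hf₀ : v₀ ≫ f.fU = x₀) (hf₁ : v₁ ≫ f.fU = x₁) (hf₂ : v₂ ≫ f.fU = x₂)
    (h₀₁ : Rel ht x₀ x₁ v₀ v₁) (h₁₂ : Rel ht x₁ x₂ v₁ v₂) : Rel ht x₀ x₂ v₀ v₂ := by
  intro T' g r hr h0 h2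
  obtain ⟨T'', c, a, hc₁, hc₂, ha₀, ha₁⟩ := exists_cover (g ≫ x₀) (g ≫ x₁)
    (by rw [Category.assoc, Category.assoc, h])
  refine SubmDescLib.hom_ext c f.fU (by rw [act_fU, h2, Category.assoc, hf₂]) ?_
  have hb : (a ≫ G.i) ≫ G.s = (c ≫ r) ≫ G.t := by rw [Category.assoc, Category.assoc, G.i_s, ha₀, h0]
  have h' : a ≫ G.s = (pullback.lift (a ≫ G.i) (c ≫ r) hb ≫ G.c) ≫ G.t := by
    rw [G.comp_t, Category.assoc, G.i_t]
  have hat : a ≫ G.t = ((c ≫ g) ≫ v₀) ≫ f.fU := by rw [ha₀, Category.assoc, Category.assoc, hf₀]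
  have hbt : (pullback.lift (a ≫ G.i) (c ≫ r) hb ≫ G.c) ≫ G.t = ((c ≫ g) ≫ v₁) ≫ f.fU := by
    rw [← h', ha₁, Category.assoc, Category.assoc, hf₁]
  have hbs : (pullback.lift (a ≫ G.i) (c ≫ r) hb ≫ G.c) ≫ G.s = (c ≫ g) ≫ x₂ := by
    rw [G.comp_s, Category.assoc, h2, Category.assoc]
  have e := comp_div G a (c ≫ r) hb h'
  have e₁ := h₀₁ (c ≫ g) a hat (by rw [ha₀, Category.assoc]) (by rw [ha₁, Category.assoc])
  rw [comp_act, ← Category.assoc c g v₂, h₁₂ (c ≫ g) _ hbt (by rw [hbt, Category.assoc, hf₁]) hbs]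
  rw [act_congr ht hbt (by rw [← e₁]; exact hbt) rfl e₁, ← act_comp ht a _ _ h' hat (by rw [e, Category.assoc, hr]; simp)]
  exact act_congr ht _ _ e (Category.assoc _ _ _)

theorem rel_symm_unique {T : Scheme.{u}} {x₀ x₁ : T ⟶ G.U} (h : x₀ ≫ G.toQuot = x₁ ≫ G.toQuot)
    {v₀ v₁ w : T ⟶ G'.U} (hf₀ : v₀ ≫ f.fU = x₀) (hf₁ : v₁ ≫ f.fU = x₁) (hfw : w ≫ f.fU = x₀)
    (h₀₁ : Rel ht x₀ x₁ v₀ v₁) (h₁₀ : Rel ht x₁ x₀ v₁ w) : w = v₀ :=
  rel_unique ht hS rfl hf₀ hfw hf₀ (rel_trans ht hS h hf₀ hf₁ hfw h₀₁ h₁₀) (rel_self ht hS x₀ v₀)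

/-- Transport along the quotient map. -/
noncomputable def transport {T : Scheme.{u}} (x₀ x₁ : T ⟶ G.U) (h : x₀ ≫ G.toQuot = x₁ ≫ G.toQuot)
    (v : Lifts (Over.mk f.fU) x₀) : Lifts (Over.mk f.fU) x₁ :=
  ⟨(rel_exists ht hS x₀ x₁ h v.1 v.2).choose, (rel_exists ht hS x₀ x₁ h v.1 v.2).choose_spec.1⟩

theorem rel_transport {T : Scheme.{u}} (x₀ x₁ : T ⟶ G.U) (h : x₀ ≫ G.toQuot = x₁ ≫ G.toQuot)
    (v : Lifts (Over.mk f.fU) x₀) : Rel ht x₀ x₁ v.1 (transport ht hS x₀ x₁ h v).1 :=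
  (rel_exists ht hS x₀ x₁ h v.1 v.2).choose_spec.2

theorem transport_eq {T : Scheme.{u}} {x₀ x₁ : T ⟶ G.U} (h : x₀ ≫ G.toQuot = x₁ ≫ G.toQuot)
    (v : Lifts (Over.mk f.fU) x₀) (w : T ⟶ G'.U) (hw : w ≫ f.fU = x₁) (hr : Rel ht x₀ x₁ v.1 w) :
    (transport ht hS x₀ x₁ h v).1 = w :=
  rel_unique ht hS h v.2 (transport ht hS x₀ x₁ h v).2 hw (rel_transport ht hS x₀ x₁ h v) hr

/-- The descent datum. -/
noncomputable def datum : SchDD G.toQuot where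
  obj := Over.mk f.fU
  φ T x₀ x₁ h :=
    { toFun := transport ht hS x₀ x₁ h
      invFun := transport ht hS x₁ x₀ h.symm
      left_inv := fun v => Subtype.ext (rel_symm_unique ht hS h v.2 (transport ht hS x₀ x₁ h v).2
        (transport ht hS x₁ x₀ h.symm _).2 (rel_transport ht hS x₀ x₁ h v) (rel_transport ht hS x₁ x₀ h.symm _))
      right_inv := fun v => Subtype.ext (rel_symm_unique ht hS h.symm v.2 (transport ht hS x₁ x₀ h.symm v).2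
        (transport ht hS x₀ x₁ h _).2 (rel_transport ht hS x₁ x₀ h.symm v) (rel_transport ht hS x₀ x₁ h _)) }
  φ_natural T T' g x₀ x₁ h h' v v' hv' := by
    refine transport_eq ht hS h' v' _ ?_ ?_
    · rw [Category.assoc]; congr 1; exact (transport ht hS x₀ x₁ h v).2
    · rw [hv']; exact (rel_transport ht hS x₀ x₁ h v).comp ht g
  φ_self T x v := Subtype.ext (transport_eq ht hS rfl v v.1 v.2 (rel_self ht hS x v.1))
  φ_comp T x₀ x₁ x₂ h₀₁ h₁₂ v := Subtype.ext (transport_eq ht hS (h₀₁.trans h₁₂) v _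
    (transport ht hS x₁ x₂ h₁₂ _).2 (rel_trans ht hS h₀₁ v.2 (transport ht hS x₀ x₁ h₀₁ v).2
      (transport ht hS x₁ x₂ h₁₂ _).2 (rel_transport ht hS x₀ x₁ h₀₁ v) (rel_transport ht hS x₁ x₂ h₁₂ _))).symm

/-- The descent datum carries the target of an arrow to its source. -/
theorem datum_arrow (x : G'.R ⟶ G.U) (y : G'.R ⟶ G.U) (hx : x = f.fR ≫ G.t) (hy : y = f.fR ≫ G.s)
    (h : x ≫ G.toQuot = y ≫ G.toQuot) (v : Lifts (Over.mk f.fU) x) (hv : v.1 = G'.t) :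
    ((datum ht hS).φ x y h v).1 = G'.s := by
  refine transport_eq ht hS h v _ (by rw [hy, f.comm_s]) ?_
  intro T' g r hr h0 h1
  have h2 : (g ≫ f.fR) ≫ G.t = (g ≫ G'.t) ≫ f.fU := by rw [Category.assoc, Category.assoc, f.comm_t]
  have e : g ≫ G'.s = act ht (g ≫ f.fR) (g ≫ G'.t) h2 := by
    rw [act]
    have : ht.lift (g ≫ f.fR) (g ≫ G'.t) h2 = g := by apply ht.hom_ext <;> simp
    rw [this]
  rw [e, act_congr ht hr (by rw [hr, hv]) rfl (by rw [hv])]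
  exact act_indep ht hS _ _ _ _ _ (by rw [h1, hy, Category.assoc])

end GrpdEtQuotLib
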