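import Groth.Prelude.Def_Grpd

/-!
# The action of arrows on a cartesian morphism of groupoid schemes

For a morphism of groupoids with cartesian target square, an arrow `r` and a point over its target give a point
over its source. When the square of stabilisers is cartesian too, that point only depends on the ends of `r`.
-/

set_option autoImplicit false
set_option backward.isDefEq.respectTransparency false
universe u
open CategoryTheory CategoryTheory.Limits AlgebraicGeometry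

namespace GrpdEtQuotLib

variable {S : Scheme.{u}}

section Div

variable (G : Grpd.GroupoidScheme S) {T : Scheme.{u}}

theorem comp_congr' {α α' β β' : T ⟶ G.R} (h : α ≫ G.s = β ≫ G.t) (h' : α' ≫ G.s = β' ≫ G.t)
    (ha : α = α') (hb : β = β') : pullback.lift α β h ≫ G.c = pullback.lift α' β' h' ≫ G.c := by
  subst ha hb; rfl

/-- `a ∘ (a⁻¹ ∘ r) = r`. -/
theorem comp_div (a r : T ⟶ G.R) (h : (a ≫ G.i) ≫ G.s = r ≫ G.t)
    (h' : a ≫ G.s = (pullback.lift (a ≫ G.i) r h ≫ G.c) ≫ G.t) :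
    pullback.lift a (pullback.lift (a ≫ G.i) r h ≫ G.c) h' ≫ G.c = r := by
  have h1 : a ≫ G.s = (a ≫ G.i) ≫ G.t := by rw [Category.assoc, G.i_t]
  have h2 : a ≫ G.t = r ≫ G.t := by rw [← h, Category.assoc, G.i_s]
  rw [← G.assoc a (a ≫ G.i) r h1 h,
    comp_congr' G _ (show (r ≫ G.t ≫ G.e) ≫ G.s = r ≫ G.t by
      rw [Category.assoc, Category.assoc, G.e_s, Category.comp_id])
      ((G.comp_i a).trans (by rw [reassoc_of% h2])) rfl, G.e_comp]

end Div

variable {G' G : Grpd.GroupoidScheme S} (f : Grpd.GroupoidScheme.Hom G' G)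

/-- The square of stabilisers is cartesian, on points. -/
def StabCart : Prop :=
  ∀ {T : Scheme.{u}} (r : T ⟶ G.R) (v : T ⟶ G'.U), r ≫ G.s = r ≫ G.t → r ≫ G.t = v ≫ f.fU →
    ∃ r' : T ⟶ G'.R, r' ≫ f.fR = r ∧ r' ≫ G'.t = v ∧ r' ≫ G'.s = v

theorem stabCart_of_isPullback
    (hstab : ∃ g : G'.stabilizer ⟶ G.stabilizer, g ≫ pullback.fst G.j G.diag = pullback.fst G'.j G'.diag ≫ f.fR ∧
      IsPullback g G'.stabilizerToU G.stabilizerToU f.fU) : StabCart f := by
  obtain ⟨g, hg, sq⟩ := hstab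
  intro T r v hst htv
  have hj : r ≫ G.j = (r ≫ G.t) ≫ G.diag := by
    apply pullback.hom_ext
    · simp [Grpd.GroupoidScheme.j, Grpd.GroupoidScheme.diag]
    · simp [Grpd.GroupoidScheme.j, Grpd.GroupoidScheme.diag, hst]
  let x : T ⟶ G'.stabilizer := sq.lift (pullback.lift r (r ≫ G.t) hj) v
    ((pullback.lift_snd _ _ _).trans htv)
  have hx : x ≫ pullback.snd G'.j G'.diag = v := sq.lift_snd _ _ _
  have hc := pullback.condition (f := G'.j) (g := G'.diag)
  refine ⟨x ≫ pullback.fst G'.j G'.diag, ?_, ?_, ?_⟩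
  · rw [Category.assoc, ← hg, ← Category.assoc, sq.lift_fst]
    exact pullback.lift_fst _ _ _
  · have := congrArg (fun φ => x ≫ φ ≫ pullback.fst G'.pU G'.pU) hc
    simp only [Grpd.GroupoidScheme.j, Grpd.GroupoidScheme.diag, Category.assoc, pullback.lift_fst,
      Category.comp_id] at this
    rw [Category.assoc]
    exact this.trans hx
  · have := congrArg (fun φ => x ≫ φ ≫ pullback.snd G'.pU G'.pU) hc
    simp only [Grpd.GroupoidScheme.j, Grpd.GroupoidScheme.diag, Category.assoc, pullback.lift_snd,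
      Category.comp_id] at this
    rw [Category.assoc]
    exact this.trans hx

variable {f} (ht : IsPullback f.fR G'.t G.t f.fU)

/-- The source of the arrow over `r` with target `v`. -/
noncomputable def act {T : Scheme.{u}} (r : T ⟶ G.R) (v : T ⟶ G'.U) (h : r ≫ G.t = v ≫ f.fU) : T ⟶ G'.U :=
  ht.lift r v h ≫ G'.s

theorem act_fU {T : Scheme.{u}} (r : T ⟶ G.R) (v : T ⟶ G'.U) (h : r ≫ G.t = v ≫ f.fU) :
    act ht r v h ≫ f.fU = r ≫ G.s := by
  rw [act, Category.assoc, ← f.comm_s, ← Category.assoc, ht.lift_fst]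

theorem act_congr {T : Scheme.{u}} {r r' : T ⟶ G.R} {v v' : T ⟶ G'.U} (h : r ≫ G.t = v ≫ f.fU)
    (h' : r' ≫ G.t = v' ≫ f.fU) (hr : r = r') (hv : v = v') : act ht r v h = act ht r' v' h' := by
  subst hr hv; rfl

theorem comp_act {T T' : Scheme.{u}} (g : T' ⟶ T) (r : T ⟶ G.R) (v : T ⟶ G'.U) (h : r ≫ G.t = v ≫ f.fU) :
    g ≫ act ht r v h = act ht (g ≫ r) (g ≫ v) (by rw [Category.assoc, Category.assoc, h]) := by
  rw [act, act, ← Category.assoc]
  congr 1
  apply ht.hom_ext <;> simp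

theorem act_of_lift {T : Scheme.{u}} (r' : T ⟶ G'.R) (h : (r' ≫ f.fR) ≫ G.t = (r' ≫ G'.t) ≫ f.fU) :
    act ht (r' ≫ f.fR) (r' ≫ G'.t) h = r' ≫ G'.s := by
  rw [act]
  congr 1
  apply ht.hom_ext <;> simp

theorem act_comp {T : Scheme.{u}} (α β : T ⟶ G.R) (v : T ⟶ G'.U) (hαβ : α ≫ G.s = β ≫ G.t)
    (h : α ≫ G.t = v ≫ f.fU) (h' : (pullback.lift α β hαβ ≫ G.c) ≫ G.t = v ≫ f.fU)
    (h'' : β ≫ G.t = act ht α v h ≫ f.fU) :
    act ht (pullback.lift α β hαβ ≫ G.c) v h' = act ht β (act ht α v h) h'' := by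
  let α' := ht.lift α v h
  let β' := ht.lift β (act ht α v h) h''
  have hc : α' ≫ G'.s = β' ≫ G'.t := (ht.lift_snd _ _ _).symm
  have e : ht.lift (pullback.lift α β hαβ ≫ G.c) v h' = pullback.lift α' β' hc ≫ G'.c := by
    apply ht.hom_ext
    · rw [ht.lift_fst, f.comm_c α' β' hc]
      exact comp_congr' G _ _ (ht.lift_fst _ _ _).symm (ht.lift_fst _ _ _).symm
    · rw [ht.lift_snd, G'.comp_t α' β' hc]
      exact (ht.lift_snd _ _ _).symm
  rw [act, e, G'.comp_s α' β' hc]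
  rfl

variable (hS : StabCart f)
include hS

theorem act_stab {T : Scheme.{u}} (r : T ⟶ G.R) (v : T ⟶ G'.U) (h : r ≫ G.t = v ≫ f.fU)
    (hst : r ≫ G.s = r ≫ G.t) : act ht r v h = v := by
  obtain ⟨r', h1, h2, h3⟩ := hS r v hst h
  rw [act_congr ht h (by rw [Category.assoc, Category.assoc, f.comm_t]) h1.symm h2.symm,
    act_of_lift ht r' (by rw [Category.assoc, Category.assoc, f.comm_t]), h3]

/-- The action only depends on the ends of the arrow. -/
theorem act_indep {T : Scheme.{u}} (r₁ r₂ : T ⟶ G.R) (v : T ⟶ G'.U) (h₁ : r₁ ≫ G.t = v ≫ f.fU)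
    (h₂ : r₂ ≫ G.t = v ≫ f.fU) (hs : r₁ ≫ G.s = r₂ ≫ G.s) : act ht r₁ v h₁ = act ht r₂ v h₂ := by
  have hb : (r₁ ≫ G.i) ≫ G.s = r₂ ≫ G.t := by rw [Category.assoc, G.i_s, h₁, h₂]
  have h' : r₁ ≫ G.s = (pullback.lift (r₁ ≫ G.i) r₂ hb ≫ G.c) ≫ G.t := by
    rw [G.comp_t, Category.assoc, G.i_t]
  have hv : (pullback.lift (r₁ ≫ G.i) r₂ hb ≫ G.c) ≫ G.t = act ht r₁ v h₁ ≫ f.fU := by rw [act_fU, h']
  have e := comp_div G r₁ r₂ hb h'
  have hbs : (pullback.lift (r₁ ≫ G.i) r₂ hb ≫ G.c) ≫ G.s = (pullback.lift (r₁ ≫ G.i) r₂ hb ≫ G.c) ≫ G.t := by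
    rw [G.comp_s, ← hs, h']
  rw [act_congr ht h₂ (by rw [e]; exact h₂) e.symm rfl, act_comp ht r₁ _ v h' h₁ _ hv,
    act_stab ht hS _ _ hv hbs]

end GrpdEtQuotLib
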