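import Groth.Agent.GrpdEtQuotLib.Descend
import Groth.Agent.GrpdEtQuotLib.Algebra
import Groth.Agent.AlgSpLib.QAffDescent
import Groth.Agent.ChevLib.Main
import Groth.Agent.S0783
import Mathlib.AlgebraicGeometry.Morphisms.Etale

/-!
# The map on quotients of an etale cartesian morphism of groupoid schemes
-/

set_option autoImplicit false
set_option backward.isDefEq.respectTransparency false
set_option backward.isDefEq.respectTransparency.types false
universe u
open CategoryTheory CategoryTheory.Limits AlgebraicGeometry Desc TensorProduct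

namespace GrpdEtQuotLib

variable {S : Scheme.{u}} {G' G : Grpd.GroupoidScheme S} {f : Grpd.GroupoidScheme.Hom G' G}
  [IsAffine G.U] [IsAffine G.R] [IsFinite G.s] [Flat G.s] [LocallyOfFinitePresentation G.s]
  [IsFinite G.t] [Flat G.t] [LocallyOfFinitePresentation G.t] [IsAffine G'.U]

/-- The descended scheme. -/
theorem exists_square (ht : IsPullback f.fR G'.t G.t f.fU) (hS : StabCart f) [Etale f.fU] :
    ∃ (Y : Scheme.{u}) (q : G'.U ⟶ Y) (p : Y ⟶ Spec (CommRingCat.of G.invariants)),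
      IsAffine Y ∧ Etale p ∧ IsPullback f.fU q G.toQuot p ∧ G'.s ≫ q = G'.t ≫ q := by
  haveI := surjective_toQuot G
  haveI := isIntegralHom_toQuot G
  let D := datum ht hS
  haveI : IsAffineHom f.fU := inferInstance
  haveI : QuasiCompact D.obj.hom := inferInstanceAs (QuasiCompact f.fU)
  haveI : IsSeparated D.obj.hom := inferInstanceAs (IsSeparated f.fU)
  haveI : Etale D.obj.hom := inferInstanceAs (Etale f.fU)
  obtain ⟨Y, hY₁, hY₂, hY₃, ⟨e⟩⟩ := Groth.Agent.S0783.result G.toQuot D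
  let i : G'.U ⟶ pullback G.toQuot Y.hom := e.inv.hom.left
  let j : pullback G.toQuot Y.hom ⟶ G'.U := e.hom.hom.left
  have hij : i ≫ j = 𝟙 G'.U := congrArg (fun φ => φ.hom.left) e.inv_hom_id
  have hji : j ≫ i = 𝟙 _ := congrArg (fun φ => φ.hom.left) e.hom_inv_id
  have hi : i ≫ pullback.fst G.toQuot Y.hom = f.fU := Over.w e.inv.hom
  let q := i ≫ pullback.snd G.toQuot Y.hom
  have sq : IsPullback f.fU q G.toQuot Y.hom :=
    (IsPullback.of_hasPullback G.toQuot Y.hom).of_iso ⟨j, i, hji, hij⟩ (Iso.refl _) (Iso.refl _) (Iso.refl _)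
      (by simp only [Iso.refl_hom, Category.comp_id]; rw [← hi, reassoc_of% hji])
      (by simp only [Iso.refl_hom, Category.comp_id, q]; rw [reassoc_of% hji]) (by simp) (by simp)
  haveI : Surjective q := MorphismProperty.of_isPullback (P := @Surjective) sq inferInstance
  haveI : IsIntegralHom q := MorphismProperty.of_isPullback (P := @IsIntegralHom) sq inferInstance
  haveI : IsAffine Y.left := ChevLib.isAffine_of_surjective_universallyClosed q
  refine ⟨Y.left, q, Y.hom, inferInstance, hY₃, sq, ?_⟩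
  have h : (f.fR ≫ G.t) ≫ G.toQuot = (f.fR ≫ G.s) ≫ G.toQuot := by
    rw [Category.assoc, Category.assoc, s_toQuot]
  let v : Lifts D.obj (f.fR ≫ G.t) := ⟨G'.t, f.comm_t.symm⟩
  let w : Lifts ((Desc.toDD G.toQuot).obj Y).obj (f.fR ≫ G.t) :=
    ⟨G'.t ≫ i, by show (G'.t ≫ i) ≫ pullback.fst _ _ = _; rw [Category.assoc, hi, f.comm_t]⟩
  have hc : (canMap G.toQuot Y (f.fR ≫ G.t) (f.fR ≫ G.s) h w).1 = (D.φ (f.fR ≫ G.t) (f.fR ≫ G.s) h v).1 ≫ i :=
    e.inv.comm (f.fR ≫ G.t) (f.fR ≫ G.s) h v w rfl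
  rw [datum_arrow ht hS _ _ rfl rfl h v rfl] at hc
  have := congrArg (· ≫ pullback.snd G.toQuot Y.hom) hc
  simp only [canMap_val, pullback.lift_snd] at this
  simpa [q, w] using this.symm

theorem toQuot_appTop (G : Grpd.GroupoidScheme S) :
    (Scheme.ΓSpecIso (CommRingCat.of G.invariants)).inv ≫ G.toQuot.appTop = CommRingCat.ofHom G.invariants.subtype := by
  rw [Grpd.GroupoidScheme.toQuot, Scheme.Hom.comp_appTop, ← Scheme.ΓSpecIso_inv_naturality_assoc,
    Scheme.toSpecΓ_appTop, Iso.inv_hom_id, Category.comp_id]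

/-- The functions of the descended scheme are the invariant functions. -/
theorem appTop_bijective (hs : IsPullback f.fR G'.s G.s f.fU) [IsAffine G'.R] {Y : Scheme.{u}} [IsAffine Y]
    {q : G'.U ⟶ Y} {p : Y ⟶ Spec (CommRingCat.of G.invariants)} [Flat p]
    (sq : IsPullback f.fU q G.toQuot p) (hq : G'.s ≫ q = G'.t ≫ q) :
    Function.Injective q.appTop.hom ∧ ∀ a, a ∈ G'.invariants → a ∈ Set.range q.appTop.hom := by
  let C := CommRingCat.of G.invariants
  let κ := (Scheme.ΓSpecIso C).inv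
  let aA := κ ≫ G.toQuot.appTop
  let aY := κ ≫ p.appTop
  let aB := κ ≫ (G.s ≫ G.toQuot).appTop
  letI : Algebra G.invariants Γ(G.U, ⊤) := aA.hom.toAlgebra
  letI : Algebra G.invariants Γ(Y, ⊤) := aY.hom.toAlgebra
  letI : Algebra G.invariants Γ(G.R, ⊤) := aB.hom.toAlgebra
  haveI : Module.Flat G.invariants Γ(Y, ⊤) := by
    have h : (p.appTop).hom.Flat := HasRingHomProperty.appTop (P := @Flat) p ‹_›
    show (aY.hom).Flat
    exact RingHom.Flat.comp (RingHom.Flat.of_bijective (ConcreteCategory.bijective_of_isIso κ)) h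
  have hA : IsPushout aA aY f.fU.appTop q.appTop :=
    (isPushout_appTop_of_isPullback sq).of_iso (Scheme.ΓSpecIso C) (Iso.refl _) (Iso.refl _) (Iso.refl _)
      (by simp [aA, κ]) (by simp [aY, κ]) (by simp) (by simp)
  have hB : IsPushout aB aY f.fR.appTop (G'.s ≫ q).appTop :=
    (isPushout_appTop_of_isPullback (hs.paste_vert sq)).of_iso (Scheme.ΓSpecIso C) (Iso.refl _) (Iso.refl _)
      (Iso.refl _) (by simp [aB, κ]) (by simp [aY, κ]) (by simp) (by simp)
  obtain ⟨eA, heA⟩ := AlgSpLib.exists_tensor_equiv (R := G.invariants) (S := Γ(G.U, ⊤)) (R' := Γ(Y, ⊤)) hA rfl rfl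
  obtain ⟨eB, heB⟩ := AlgSpLib.exists_tensor_equiv (R := G.invariants) (S := Γ(G.R, ⊤)) (R' := Γ(Y, ⊤)) hB rfl rfl
  have hmap : ∀ c : G.invariants, algebraMap G.invariants Γ(G.U, ⊤) c = c.1 := fun c =>
    RingHom.congr_fun (congrArg CommRingCat.Hom.hom (toQuot_appTop G)) c
  have hmapB : ∀ c : G.invariants, algebraMap G.invariants Γ(G.R, ⊤) c = G.s.appTop.hom c.1 := fun c => by
    show (κ ≫ (G.s ≫ G.toQuot).appTop).hom c = _
    rw [Scheme.Hom.comp_appTop, ← Category.assoc, toQuot_appTop]; rfl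
  let sA : Γ(G.U, ⊤) →ₐ[G.invariants] Γ(G.R, ⊤) :=
    { G.s.appTop.hom with
      commutes' := fun c => by
        show G.s.appTop.hom _ = _
        rw [hmap, hmapB] }
  let tA : Γ(G.U, ⊤) →ₐ[G.invariants] Γ(G.R, ⊤) :=
    { G.t.appTop.hom with
      commutes' := fun c => by
        show G.t.appTop.hom _ = _
        rw [hmap, hmapB, appTop_s_eq_t] }
  have key : ∀ (φ : G'.R ⟶ G'.U) (ψ : G.R ⟶ G.U), f.fR ≫ ψ = φ ≫ f.fU → φ ≫ q = G'.s ≫ q → ∀ a y,
      φ.appTop.hom (eA (a ⊗ₜ y)) = eB (ψ.appTop.hom a ⊗ₜ y) := by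
    intro φ ψ h1 h2 a y
    rw [heA, heB, map_mul, ← h2]
    congr 1
    have := RingHom.congr_fun (congrArg (fun z => z.appTop.hom) h1) a
    simpa using this.symm
  obtain ⟨h1, h2⟩ := equalizer_baseChange (C := G.invariants)
    (fun c c' h => Subtype.ext (by rw [← hmap, ← hmap, h])) sA tA
    (fun a ha => ⟨⟨a, ha⟩, hmap _⟩) eA eB G'.s.appTop.hom G'.t.appTop.hom
    (key G'.s G.s f.comm_s rfl) (key G'.t G.t f.comm_t hq.symm)
  have he : (fun y => eA (1 ⊗ₜ y)) = fun y => q.appTop.hom y := funext fun y => by rw [heA, map_one, one_mul]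
  rw [he] at h1 h2
  exact ⟨h1, h2⟩

variable [IsAffine G'.R] [Etale f.fU]

/-- The map on quotients is etale and the square is cartesian. -/
theorem exists_quotient_map (hs : IsPullback f.fR G'.s G.s f.fU) (ht : IsPullback f.fR G'.t G.t f.fU)
    (hS : StabCart f) :
    ∃ g : Spec (CommRingCat.of G'.invariants) ⟶ Spec (CommRingCat.of G.invariants),
      G'.toQuot ≫ g = f.fU ≫ G.toQuot ∧ Etale g ∧ IsPullback f.fU G'.toQuot G.toQuot g ∧
      ∀ g', G'.toQuot ≫ g' = f.fU ≫ G.toQuot → g' = g := by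
  obtain ⟨Y, q, p, hY, hp, sq, hq⟩ := exists_square ht hS
  obtain ⟨hinj, hsurj⟩ := appTop_bijective hs sq hq
  have hmem : ∀ y : Γ(Y, ⊤), q.appTop.hom y ∈ G'.invariants := fun y =>
    RingHom.congr_fun (congrArg (fun z : G'.R ⟶ Y => z.appTop.hom) hq) y
  let ψ : Γ(Y, ⊤) ⟶ CommRingCat.of G'.invariants := CommRingCat.ofHom (q.appTop.hom.codRestrict G'.invariants hmem)
  haveI : IsIso ψ := (ConcreteCategory.isIso_iff_bijective ψ).2
    ⟨fun a b h => hinj (congrArg Subtype.val h), fun c => by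
      obtain ⟨y, hy⟩ := hsurj c.1 c.2
      exact ⟨y, Subtype.ext hy⟩⟩
  let w := Spec.map ψ ≫ Y.isoSpec.inv
  have hw : G'.toQuot ≫ w = q := by
    rw [Grpd.GroupoidScheme.toQuot, Category.assoc, ← Category.assoc (Spec.map _), ← Spec.map_comp,
      show ψ ≫ CommRingCat.ofHom G'.invariants.subtype = q.appTop from rfl, ← Category.assoc,
      ← Scheme.toSpecΓ_naturality, Category.assoc, Scheme.toSpecΓ_isoSpec_inv, Category.comp_id]
  have hg : G'.toQuot ≫ w ≫ p = f.fU ≫ G.toQuot := by rw [reassoc_of% hw, sq.w]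
  refine ⟨w ≫ p, hg, inferInstance, ?_, fun g' hg' => ?_⟩
  · exact sq.of_iso (Iso.refl _) (Iso.refl _) (asIso w).symm (Iso.refl _) (by simp)
      (by simp [← hw]) (by simp) (by simp)
  · rw [← hg, Grpd.GroupoidScheme.toQuot, Category.assoc, Category.assoc,
      ← Scheme.isoSpec_hom, cancel_epi] at hg'
    obtain ⟨a, rfl⟩ : ∃ a, Spec.map a = g' := ⟨_, Spec.map_preimage g'⟩
    obtain ⟨b, hb⟩ : ∃ b, Spec.map b = w ≫ p := ⟨_, Spec.map_preimage _⟩
    rw [← hb] at hg' ⊢
    rw [← Spec.map_comp, ← Spec.map_comp] at hg'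
    have := Spec.map_injective hg'
    congr 1
    ext c
    exact RingHom.congr_fun (congrArg CommRingCat.Hom.hom this) c

end GrpdEtQuotLib
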